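import Cfsg.Agent.H64.P4.Real

/-!
# S5210 [P4-REALb] (helper64): `q = 2`, the subgroups `E_α` are not essential; the statement (REAL)
-/

set_option autoImplicit false

namespace Cfsg.Agent.H64.P4

open Cfsg Cfsg.FusionSystem Cfsg.Agent.H776.P4 Cfsg.Agent.H781
open Cfsg.Agent.H756.PU (HypK Ess Inv Com NormAut TIAut AF syl_of_normal top_le_normalizer_of_char)
open Cfsg.Agent.H1.P4 (er ec eb commute_iff mem_PV_iff eq_zero_of_tr finite_PG stTI char_PV)
open Cfsg.Agent.H732.PU (Triv Fx fx_step)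

universe u

section

variable {K : Type u} [Field K] [StarRing K] {p n : ℕ}

theorem two_facts (hK : HypK K p n) (h2 : p ^ n = 2) :
    (∀ x : K, star x = x → x = 0 ∨ x = 1) ∧ (∀ x : K, x + x = 0) := by
  constructor
  · intro x hx
    have h := hK.star_eq x
    rw [h2, hx] at h
    have h3 : x * (x - 1) = 0 := by linear_combination -h
    rcases mul_eq_zero.1 h3 with h4 | h4
    · exact Or.inl h4
    · exact Or.inr (sub_eq_zero.1 h4)
  · have hp : p = 2 := by
      have h3 : p ∣ 2 := by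
        rw [← h2]
        exact dvd_pow_self p (by have := hK.hn; omega)
      exact (Nat.prime_dvd_prime_iff_eq hK.pp Nat.prime_two).1 h3
    have := hK.char
    rw [hp] at this
    exact fun x => CharTwo.add_self_eq_zero x

theorem mem_EA (hc2 : ∀ x : K, x + x = 0) {α : K} {g : PG K} : g ∈ EA α ↔ g.r = 0 ∨ g.r = α := by
  constructor
  · intro h
    let H : Subgroup (PG K) :=
      { carrier := {g | g.r = 0 ∨ g.r = α}
        one_mem' := Or.inl rfl
        mul_mem' := by
          rintro x y (hx | hx) (hy | hy)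
          · left; rw [PG.mul_r, hx, hy, add_zero]
          · right; rw [PG.mul_r, hx, hy, zero_add]
          · right; rw [PG.mul_r, hx, hy, add_zero]
          · left; rw [PG.mul_r, hx, hy, hc2]
        inv_mem' := by
          rintro x (hx | hx)
          · left; rw [PG.inv_r, hx, neg_zero]
          · right; rw [PG.inv_r, hx]; exact neg_eq_of_add_eq_zero_left (hc2 α) }
    have hle : EA α ≤ H := by
      rw [EA, Subgroup.closure_le]
      exact fun x hx => hx
    exact hle h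
  · intro h
    exact Subgroup.subset_closure h

/-- the centre of `E_α` -/
def WW (α : K) : Subgroup (PG K) where
  carrier := {g | g.r = 0 ∧ g.c = 0 ∧ α * star g.b + star α * g.b = 0}
  one_mem' := by simp
  mul_mem' := by
    rintro x y ⟨h1, h2, h3⟩ ⟨k1, k2, k3⟩
    refine ⟨by simp [h1, k1], by simp [h2, k2], ?_⟩
    rw [PG.mul_b, h1, zero_mul, add_zero, star_add]
    linear_combination h3 + k3
  inv_mem' := by
    rintro x ⟨h1, h2, h3⟩
    refine ⟨by simp [h1], by simp [h2], ?_⟩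
    rw [PG.inv_b, h1, zero_mul, add_zero, star_neg]
    linear_combination -h3

theorem mem_WW {α : K} {x : PG K} : x ∈ WW α ↔ x.r = 0 ∧ x.c = 0 ∧ α * star x.b + star α * x.b = 0 := Iff.rfl

theorem mem_WW_of_comm {α : K} (hα : α ≠ 0) {x y : PG K} (hx : x.r = 0) (hy : y.r = α) (h : x * y = y * x) :
    x ∈ WW α := by
  obtain ⟨h1, h2⟩ := commute_iff.1 h
  rw [hx, hy, zero_mul] at h1
  have hc : x.c = 0 := (mul_eq_zero.1 h1.symm).resolve_left hα
  rw [hx, hy, hc, star_zero] at h2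
  exact ⟨hx, hc, by linear_combination -h2⟩

theorem center_EA (hK : HypK K p n) (hc2 : ∀ x : K, x + x = 0) {α : K} (hα : α ≠ 0) :
    ∀ x ∈ EA α, x ∈ WW α ↔ ∀ y ∈ EA α, x * y = y * x := by
  intro x hx
  constructor
  · rintro ⟨h1, h2, h3⟩ y hy
    rw [commute_iff, h1, h2, star_zero]
    refine ⟨by ring, ?_⟩
    rcases (mem_EA hc2).1 hy with h | h
    · rw [h, star_zero]; ring
    · rw [h]; linear_combination -h3
  · intro h
    have hr : x.r = 0 := by
      rcases (mem_EA hc2).1 hx with h1 | h1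
      · exact h1
      · exfalso
        apply hα
        refine eq_zero_of_tr hK fun b => ?_
        have h2 := (commute_iff.1 (h (eb b) ((mem_EA hc2).2 (Or.inl rfl)))).2
        have e1 : (eb b : PG K).r = 0 := rfl
        have e2 : (eb b : PG K).b = b := rfl
        have e3 : (eb b : PG K).c = 0 := rfl
        rw [e1, e2, e3, h1, star_zero] at h2
        linear_combination h2
    exact mem_WW_of_comm hα hr rfl (h (er α) ((mem_EA hc2).2 (Or.inr rfl)))

theorem WW_iff (hK : HypK K p n) (hc2 : ∀ x : K, x + x = 0) {α : K} (hα : α ≠ 0) (γ : MulAut (EA α)) :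
    ∀ x : EA α, (x : PG K) ∈ WW α ↔ ((γ x : EA α) : PG K) ∈ WW α :=
  H1.P4.inv_of_comm le_rfl (center_EA hK hc2 hα) γ fun x => ⟨fun _ => (γ x).2, fun _ => x.2⟩

/-- every automorphism of `E_α` preserves `V` -/
theorem PV_EA (hK : HypK K p n) (hc2 : ∀ x : K, x + x = 0) {α : K} (hα : α ≠ 0) (γ : MulAut (EA α)) (v : EA α)
    (hv : (v : PG K) ∈ PV K) : ((γ v : EA α) : PG K) ∈ PV K := by
  by_contra hnv
  have hrv : ((γ v : EA α) : PG K).r = α := ((mem_EA hc2).1 (γ v).2).resolve_left hnv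
  have hVab : ∀ x ∈ PV K, ∀ y ∈ PV K, x * y = y * x := by
    intro x hx y hy
    have hx' : x.r = 0 := hx
    have hy' : y.r = 0 := hy
    rw [commute_iff, hx', hy', star_zero]
    exact ⟨by ring, by ring⟩
  have key : ∀ w : EA α, (w : PG K) ∈ PV K → ((γ w : EA α) : PG K).r = 0 → (w : PG K) ∈ WW α := by
    intro w hw hr
    rw [WW_iff hK hc2 hα γ w]
    refine mem_WW_of_comm hα hr hrv ?_
    have h1 : w * v = v * w := Subtype.ext (hVab _ hw _ hv)
    have h2 := congrArg γ h1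
    rw [map_mul, map_mul] at h2
    exact congrArg Subtype.val h2
  have key2 : ∀ w : EA α, (w : PG K) ∈ PV K → (w : PG K) ∉ WW α → (w : PG K) * (v : PG K)⁻¹ ∈ WW α := by
    intro w hw hnw
    have hrw : ((γ w : EA α) : PG K).r = α :=
      ((mem_EA hc2).1 (γ w).2).resolve_left fun h => hnw (key w hw h)
    have h1 := key (w * v⁻¹) ((PV K).mul_mem hw ((PV K).inv_mem hv)) (by
      rw [map_mul, map_inv]
      show (((γ w : EA α) : PG K) * ((γ v : EA α) : PG K)⁻¹).r = 0
      rw [PG.mul_r, PG.inv_r, hrw, hrv]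
      ring)
    exact h1
  obtain ⟨b1, hb1⟩ : ∃ b : K, α * star b + star α * b ≠ 0 := by
    by_contra hcon
    push Not at hcon
    exact hα (eq_zero_of_tr hK hcon)
  have h1 := key2 ⟨eb b1, (mem_EA hc2).2 (Or.inl rfl)⟩ rfl fun h => hb1 h.2.2
  have h2 := key2 ⟨ec 1 (star_one K), (mem_EA hc2).2 (Or.inl rfl)⟩ rfl fun h => one_ne_zero h.2.1
  have h3 : (0 : K) + - (v : PG K).c = 0 := h1.2.1
  have h4 : (1 : K) + - (v : PG K).c = 0 := h2.2.1
  apply one_ne_zero (α := K)
  linear_combination h4 - h3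

/-- the hermitian determinant -/
def dt (x : PG K) : K := x.a * x.c - x.b * star x.b

theorem star_dt (x : PG K) : star (dt x) = dt x := by
  rw [dt, star_sub, star_mul', star_mul', star_star, x.ha, x.hc]
  ring

theorem dt_tor {d : MulAut (PG K)} {s l : K} {τ : K ≃+* K} (hd : IsTorP d s l τ) (x : PG K) :
    dt (d x) = s * star s * (l * l) * τ (dt x) := by
  rw [dt, dt, hd.a, hd.b, hd.c, star_mul', star_mul', hd.sl, ← hd.tst, map_sub, map_mul, map_mul]
  ring

theorem kill_EA [Fact p.Prime] (hK : HypK K p n) (h2 : p ^ n = 2) (hpg : IsPGroup p (⊤ : Subgroup (PG K)))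
    (hTP : ∀ α ∈ TP K, ∃ s l τ, IsTorP α s l τ) (R : RData.{u} K p) {D : Subgroup (MulAut (PG K))} (hDT : D ≤ TP K)
    {α : K} (hα : α ≠ 0) {Γ : Subgroup (MulAut (EA α))}
    (hΓ : ∀ γ ∈ Γ, ∃ g : R.G0, ∃ d ∈ D, ∀ e : EA α, R.ι ((γ e : EA α) : PG K) = g * R.ι (d (e : PG K)) * g⁻¹) :
    IsPGroup p Γ := by
  have := finite_PG hK
  obtain ⟨hk, hc2⟩ := two_facts hK h2
  have hVE : PV K ≤ EA α := fun x hx => (mem_EA hc2).2 (Or.inl hx)
  have iE : Inv Γ (EA α) := ⟨le_rfl, fun γ _ e _ => (γ e).2⟩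
  have iV : Inv Γ (PV K) := ⟨hVE, fun γ _ e he => PV_EA hK hc2 hα γ e he⟩
  have hWV : WW α ≤ PV K := fun x hx => hx.1
  have iW : Inv Γ (WW α) := ⟨hWV.trans hVE, fun γ _ e he => (WW_iff hK hc2 hα γ e).1 he⟩
  -- the determinant
  have hdet : ∀ γ ∈ Γ, ∀ e : EA α, (e : PG K) ∈ PV K → (dt ((γ e : EA α) : PG K) = 0 ↔ dt (e : PG K) = 0) := by
    intro γ hγ e he
    obtain ⟨g, d, hd, hg⟩ := hΓ γ hγ
    obtain ⟨s, l, τ, ht⟩ := hTP d (hDT hd)
    obtain ⟨c0, hc0, hc⟩ := R.nrmV g (fun x hx => by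
      have h1 : d⁻¹ x ∈ PV K := char_PV hK d⁻¹ hx
      refine ⟨_, iV.2 γ hγ ⟨d⁻¹ x, hVE h1⟩ h1, ?_⟩
      rw [hg]
      show _ = g * R.ι (d (d⁻¹ x)) * g⁻¹
      rw [MulAut.apply_inv_self])
    have h1 : dt ((γ e : EA α) : PG K) = c0 * dt (d (e : PG K)) :=
      hc _ (char_PV hK d he) _ (iV.2 γ hγ e he) (hg e).symm
    rw [h1, dt_tor ht]
    have hs' : star s ≠ 0 := fun h => ht.ns ((star_eq_zero).1 h)
    constructor
    · intro h
      have h3 : c0 * (s * star s * (l * l)) * τ (dt (e : PG K)) = 0 := by linear_combination h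
      have h4 : c0 * (s * star s * (l * l)) ≠ 0 :=
        mul_ne_zero hc0 (mul_ne_zero (mul_ne_zero ht.ns hs') (mul_ne_zero ht.nl ht.nl))
      have h5 := (mul_eq_zero.1 h3).resolve_left h4
      exact (map_eq_zero_iff τ τ.injective).1 h5
    · intro h
      rw [h, map_zero, mul_zero, mul_zero]
  have hZW : PZ K ≤ WW α := by
    rintro x ⟨h1, h3, h4⟩
    exact ⟨h1, h4, by rw [h3, star_zero]; ring⟩
  have iZ : Inv Γ (PZ K) := by
    refine ⟨hZW.trans (hWV.trans hVE), fun γ hγ e he => ?_⟩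
    obtain ⟨k1, k2, -⟩ := iW.2 γ hγ e (hZW he)
    have h1 : dt (e : PG K) = 0 := by
      rw [dt, he.2.1, he.2.2, star_zero]
      ring
    have h3 := (hdet γ hγ e he.1).2 h1
    rw [dt, k2] at h3
    refine ⟨k1, ?_, k2⟩
    have h4 : ((γ e : EA α) : PG K).b * star ((γ e : EA α) : PG K).b = 0 := by linear_combination -h3
    rcases mul_eq_zero.1 h4 with h5 | h5
    · exact h5
    · exact star_eq_zero.1 h5
  have fZ : ∀ γ ∈ Γ, Fx (PZ K) γ := by
    intro γ hγ e he
    have h1 := iZ.2 γ hγ e he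
    have hone : ∀ x : PG K, x ∈ PZ K → x.a = 0 → x = 1 := fun x hx h => PG.ext hx.1 h hx.2.1 hx.2.2
    apply Subtype.ext
    rcases hk _ (e : PG K).ha with h3 | h3
    · have h4 : e = 1 := Subtype.ext (hone _ he h3)
      rw [h4, map_one]
    · rcases hk _ ((γ e : EA α) : PG K).ha with h4 | h4
      · exfalso
        have h5 : γ e = 1 := Subtype.ext (hone _ h1 h4)
        have h6 : e = 1 := by
          apply γ.injective
          rw [h5, map_one]
        rw [h6] at h3
        exact zero_ne_one h3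
      · refine PG.ext ?_ (h4.trans h3.symm) ?_ ?_
        · rw [h1.1, he.1]
        · rw [h1.2.1, he.2.1]
        · rw [h1.2.2, he.2.2]
  -- `Y`
  have hYV : PY K ≤ PV K := fun x hx => hx.1
  let z : PG K := ⟨0, 1, 0, 0, by simp, by simp⟩
  have hz : z ∈ PZ K := ⟨rfl, rfl, rfl⟩
  have hzE : z ∈ EA α := hVE hz.1
  have hdz : ∀ v : PG K, v ∈ PV K → dt (v * z) = dt v + v.c := by
    intro v hv
    have hv' : v.r = 0 := hv
    rw [dt, dt, PG.mul_a, PG.mul_b, PG.mul_c, hv']
    show (v.a + 1 + 0 * star (0 : K) + star (0 : K) * 0 + 0 * star (0 : K) * 0) * (v.c + 0) -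
      (v.b + 0 + 0 * 0) * star (v.b + 0 + 0 * 0) = _
    rw [star_zero]
    simp only [mul_zero, add_zero]
    ring
  have hYiff : ∀ v ∈ PV K, v.c = 0 ↔ (dt v = 0 ↔ dt (v * z) = 0) := by
    intro v hv
    rw [hdz v hv]
    constructor
    · intro h
      rw [h, add_zero]
    · intro h
      rcases hk _ v.hc with h3 | h3
      · exact h3
      · exfalso
        rw [h3] at h
        rcases hk _ (star_dt v) with h4 | h4
        · rw [h4, zero_add] at h
          exact one_ne_zero (h.1 rfl)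
        · rw [h4, hc2] at h
          exact one_ne_zero (h.2 rfl)
  have iY : Inv Γ (PY K) := by
    refine ⟨hYV.trans hVE, fun γ hγ e he => ?_⟩
    have heV : (e : PG K) ∈ PV K := he.1
    have h1 := (hYiff _ heV).1 he.2
    have h3 := iV.2 γ hγ e heV
    refine ⟨h3, (hYiff _ h3).2 ?_⟩
    have h4 := hdet γ hγ e heV
    have hzV : z ∈ PV K := hz.1
    have hezV : ((e * ⟨z, hzE⟩ : EA α) : PG K) ∈ PV K := (PV K).mul_mem heV hzV
    have h5 := hdet γ hγ (e * ⟨z, hzE⟩) hezV
    rw [map_mul, fZ γ hγ ⟨z, hzE⟩ hz] at h5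
    have h6 : (((γ e * ⟨z, hzE⟩ : EA α)) : PG K) = ((γ e : EA α) : PG K) * z := rfl
    have h7 : (((e * ⟨z, hzE⟩ : EA α)) : PG K) = (e : PG K) * z := rfl
    rw [h6, h7] at h5
    rw [h4, h5]
    exact h1
  refine pGroup_of_chain hpg le_top (PZ K) (WW α) (PY K) (PV K) iZ.1 iW.1 iY.1 iV.1
    (triv_of_two iV iE ?_) (triv_of_two iY iV ?_) (triv_of_two iW iY ?_) (triv_of_two iZ iW ?_) fZ
  · intro x hx y hy hx' hy'
    have h1 : x.r = α := ((mem_EA hc2).1 hx).resolve_left hx'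
    have h3 : y.r = α := ((mem_EA hc2).1 hy).resolve_left hy'
    show (x * y⁻¹).r = 0
    rw [PG.mul_r, PG.inv_r, h1, h3]
    ring
  · intro x hx y hy hx' hy'
    have h1 : x.c = 1 := (hk _ x.hc).resolve_left fun h => hx' ⟨hx, h⟩
    have h3 : y.c = 1 := (hk _ y.hc).resolve_left fun h => hy' ⟨hy, h⟩
    refine ⟨(PV K).mul_mem hx ((PV K).inv_mem hy), ?_⟩
    rw [PG.mul_c, PG.inv_c, h1, h3]
    ring
  · intro x hx y hy hx' hy'
    have hst : ∀ b : K, star (α * star b + star α * b) = α * star b + star α * b := by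
      intro b
      rw [star_add, star_mul', star_mul', star_star, star_star]
      ring
    have h1 : α * star x.b + star α * x.b = 1 := (hk _ (hst _)).resolve_left fun h => hx' ⟨hx.1, hx.2, h⟩
    have h3 : α * star y.b + star α * y.b = 1 := (hk _ (hst _)).resolve_left fun h => hy' ⟨hy.1, hy.2, h⟩
    have h4 := (PY K).mul_mem hx ((PY K).inv_mem hy)
    refine ⟨h4.1, h4.2, ?_⟩
    have hxr : x.r = 0 := hx.1
    have hyr : y.r = 0 := hy.1
    rw [PG.mul_b, PG.inv_b, hxr, hyr, zero_mul, zero_mul, add_zero, add_zero, star_add, star_neg]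
    linear_combination h1 - h3
  · intro x hx y hy hx' hy'
    have hb : ∀ w : PG K, w ∈ WW α → w ∉ PZ K → star α * w.b = 1 := by
      intro w hw hw'
      have h5 : star (star α * w.b) = star α * w.b := by
        rw [star_mul', star_star]
        have h6 := hc2 (star α * w.b)
        have h7 := hw.2.2
        linear_combination h7 - h6
      refine (hk _ h5).resolve_left fun h => hw' ⟨hw.1, ?_, hw.2.1⟩
      have hs' : star α ≠ 0 := fun h => hα ((star_eq_zero).1 h)
      exact (mul_eq_zero.1 h).resolve_left hs'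
    have h1 := hb x hx hx'
    have h3 := hb y hy hy'
    have h4 := (WW α).mul_mem hx ((WW α).inv_mem hy)
    refine ⟨h4.1, ?_, h4.2.1⟩
    have hxr : x.r = 0 := hx.1
    have hyr : y.r = 0 := hy.1
    have hs' : star α ≠ 0 := fun h => hα ((star_eq_zero).1 h)
    have h5 : star α * (x.b - y.b) = 0 := by linear_combination h1 - h3
    have h6 := (mul_eq_zero.1 h5).resolve_left hs'
    rw [PG.mul_b, PG.inv_b, hxr, hyr, zero_mul, zero_mul, add_zero, add_zero]
    linear_combination h6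

end

/-! ### the statement -/

/-- **(REAL)** from the concrete group, (GRP), (E1)-(E4) and (2E) -/
theorem stReal (hA : StRealA.{u}) (hG : StGrp.{u}) (hE1 : StE1.{u}) (hE2 : StE2.{u}) (hE3 : StE3.{u})
    (hE4 : StE4.{u}) (hTE : StTwoE.{u}) : StReal.{u} := by
  intro K _ _ p n _ hK D hDT hDc hT1 hT2
  obtain ⟨R⟩ := hA hK
  obtain ⟨hcard, hpg, -, hTP, -⟩ := hG hK
  have hfinU : Finite (PG K) := finite_PG hK
  obtain ⟨F, hF, hreal, haut, hAF⟩ := exists_sys hK hpg R D hDT hDc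
  obtain ⟨hTI1, hTI2⟩ := stTI hK
  obtain ⟨hQc, hQne, hQchar⟩ := hTI2 (PQ K) (Or.inr rfl)
  have hQn := top_le_normalizer_of_char hQchar
  refine ⟨F, hF, hreal, ?_, ?_, ?_, ?_, ?_⟩
  · apply le_antisymm
    · intro α hα
      obtain ⟨g, d, hd, hg⟩ := (hAF α).1 hα
      obtain ⟨u, τ, hτ, h⟩ := R.nrm g (fun x => by
        refine ⟨α (d⁻¹ x), ?_⟩
        rw [hg, MulAut.apply_inv_self])
      have h1 : α = MulAut.conj u * (τ * d) := by
        ext1 x
        apply R.inj
        rw [hg, h]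
        rfl
      rw [h1]
      exact Subgroup.mul_mem_sup ⟨u, rfl⟩ (D.mul_mem (torEl_mem hT1 hT2 hτ) hd)
    · apply sup_le
      · rintro _ ⟨u, rfl⟩
        rw [hAF]
        refine ⟨R.ι u, 1, D.one_mem, fun x => ?_⟩
        rw [MulAut.one_apply, ← map_mul, ← map_inv, ← map_mul]
        rfl
      · intro d hd
        rw [hAF]
        exact ⟨1, d, hd, fun x => by rw [one_mul, inv_one, mul_one]⟩
  · obtain ⟨g, γ, hγ, hg⟩ := R.wV
    intro hn
    apply nn_WV hγ
    apply hn
    rw [haut]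
    exact ⟨g, 1, D.one_mem, fun e => by rw [MulAut.one_apply, hg]⟩
  · obtain ⟨g, γ, hγ, hg⟩ := R.wQ
    intro hn
    apply nn_WQ hγ
    apply hn
    rw [haut]
    exact ⟨g, 1, D.one_mem, fun e => by rw [MulAut.one_apply, hg]⟩
  · intro γ hγ
    obtain ⟨g, d, hd, hg⟩ := (haut _ γ).1 hγ
    obtain ⟨δd, hδd⟩ := exists_res d (hQchar d)
    obtain ⟨l, hl, τ, δ0, hτ, hδ0, h⟩ := R.nrmQ g (fun x hx => by
      obtain ⟨δi, hδi⟩ := exists_res d⁻¹ (hQchar d⁻¹)
      refine ⟨_, (γ (δi ⟨x, hx⟩)).2, ?_⟩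
      rw [hg, hδi]
      show _ = g * R.ι (d (d⁻¹ x)) * g⁻¹
      rw [MulAut.apply_inv_self])
    refine ⟨l, hl, τ * d, D.mul_mem (torEl_mem hT1 hT2 hτ) hd, δ0 * δd, fun e => ?_, ?_⟩
    · rw [MulAut.mul_apply, hδ0, hδd, MulAut.mul_apply]
    · ext1 e
      apply Subtype.ext
      apply R.inj
      rw [hg, ← hδd, h]
      rfl
  · intro E hE
    have hEss := H245.PU.stEss F E hpg hF hE
    by_cases hq : 2 < p ^ n
    · have hY := hE1 hK hEss
      by_cases hV : PV K ≤ E
      · exact Or.inl (hE4 hK hq hEss hV)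
      · obtain ⟨hQE, hQi⟩ := hE3 hK hEss hY (hE2 hK hEss hY hV)
        right
        exact H659.PU.stOver F (PQ K) E hpg hF hE hQE hQn hQc
          (hTI1 _ (H802.autInducedBy_le_autGroup F le_top) (syl_of_normal hpg hF hQn)) hQi
    · have hq2 : p ^ n = 2 := by
        have h1 : p ≤ p ^ n := Nat.le_self_pow (by have := hK.hn; omega) p
        have h3 := hK.pp.two_le
        omega
      rcases hTE hK hq2 F hF E hE with h | h | ⟨α, hα, rfl⟩
      · exact Or.inl h
      · exact Or.inr h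
      · exfalso
        exact not_pGroup_of_ess hEss (kill_EA hK hq2 hpg hTP R hDT hα fun γ hγ => (haut _ γ).1 hγ)

end Cfsg.Agent.H64.P4
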