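import Cfsg.Agent.H776.P4.Stmts2
import Cfsg.Agent.H1.P4.TI

/-!
# S5210 [P4-LN] (helper64)

The diagonal elements of `SL₂(K)` on `V` and of `SL₂(k)` on `Q` lie in `LamV K` and `LamQ K`; the torus `TP K` normalizes
`LamV K` and `LamQ K`.

* `IsDV t δ` : `δ` is `(a, b, c) ↦ (N(t) a, t (star t)⁻¹ b, N(t)⁻¹ c)` on `V`; `dV_mem : δ ∈ LamV K`;
* `IsDQ t δ` : `δ` is `(r, a, b) ↦ (t r, a, t⁻¹ b)` on `Q`, `star t = t`; `dQ_mem : δ ∈ LamQ K`;
* `torV_mem`, `torQ_mem` : the restrictions of `tor(t², N(t)⁻¹)` to `V`, of `tor(t, t⁻²)` to `Q`;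
* `stLamN (hG : StGrp) : StLamN`.
-/

set_option autoImplicit false
set_option linter.unusedSimpArgs false

namespace Cfsg.Agent.H64.P4

open Cfsg Cfsg.FusionSystem Cfsg.Agent.H776.P4
open Cfsg.Agent.H756.PU (HypK NormAut)
open Cfsg.Agent.H1.P4 (er ec eb)

universe u

section

variable {K : Type u} [Field K] [StarRing K]

instance normal_PV : (PV K).Normal := by
  constructor
  intro g h1 y
  have h1' : g.r = 0 := h1
  show (y * g * y⁻¹).r = 0
  simp [h1']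

instance normal_PQ : (PQ K).Normal := by
  constructor
  intro g h1 y
  have h1' : g.c = 0 := h1
  show (y * g * y⁻¹).c = 0
  simp [h1']

theorem conj_ind (Q : Subgroup (PG K)) [Q.Normal] (x : PG K) : MulAut.conjNormal x ∈ autInducedBy ⊤ Q :=
  (Cfsg.Agent.H802.mem_autInducedBy_iff _ _ _).2 ⟨x, trivial, fun _ => rfl⟩

theorem extV {α β : MulAut (PV K)} (ha : ∀ e : PV K, ((α e : PV K) : PG K).a = ((β e : PV K) : PG K).a)
    (hb : ∀ e : PV K, ((α e : PV K) : PG K).b = ((β e : PV K) : PG K).b)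
    (hc : ∀ e : PV K, ((α e : PV K) : PG K).c = ((β e : PV K) : PG K).c) : α = β :=
  MulEquiv.ext fun e => Subtype.ext (PG.ext ((α e).2.trans (β e).2.symm) (ha e) (hb e) (hc e))

theorem extQ {α β : MulAut (PQ K)} (hr : ∀ e : PQ K, ((α e : PQ K) : PG K).r = ((β e : PQ K) : PG K).r)
    (ha : ∀ e : PQ K, ((α e : PQ K) : PG K).a = ((β e : PQ K) : PG K).a)
    (hb : ∀ e : PQ K, ((α e : PQ K) : PG K).b = ((β e : PQ K) : PG K).b) : α = β :=
  MulEquiv.ext fun e => Subtype.ext (PG.ext (hr e) (ha e) (hb e) ((α e).2.trans (β e).2.symm))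

/-! ### `V` -/

theorem cV_a (x : K) (e : PV K) : ((MulAut.conjNormal (er x) e : PV K) : PG K).a =
    (e : PG K).a + x * star (e : PG K).b + star x * (e : PG K).b + x * star x * (e : PG K).c := by
  have h : (e : PG K).r = 0 := e.2
  show (er x * (e : PG K) * (er x)⁻¹).a = _
  simp only [PG.mul_a, PG.mul_b, PG.mul_r, PG.mul_c, PG.inv_a, PG.inv_b, PG.inv_c, PG.inv_r, er, h, star_zero, neg_zero,
    mul_zero, add_zero, zero_add, zero_mul]
  ring

theorem cV_b (x : K) (e : PV K) : ((MulAut.conjNormal (er x) e : PV K) : PG K).b =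
    (e : PG K).b + x * (e : PG K).c := by
  have h : (e : PG K).r = 0 := e.2
  show (er x * (e : PG K) * (er x)⁻¹).b = _
  simp only [PG.mul_b, PG.mul_r, PG.mul_c, PG.inv_b, PG.inv_c, er, h]
  ring

theorem cV_c (x : K) (e : PV K) : ((MulAut.conjNormal (er x) e : PV K) : PG K).c = (e : PG K).c := by
  show (er x * (e : PG K) * (er x)⁻¹).c = _
  simp [er]

/-- the diagonal element `diag(t, t⁻¹)` of `SL₂(K)` on `V` -/
structure IsDV (t : K) (δ : MulAut (PV K)) : Prop where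
  a : ∀ e : PV K, ((δ e : PV K) : PG K).a = t * star t * (e : PG K).a
  b : ∀ e : PV K, ((δ e : PV K) : PG K).b = t * (star t)⁻¹ * (e : PG K).b
  c : ∀ e : PV K, ((δ e : PV K) : PG K).c = (t * star t)⁻¹ * (e : PG K).c

/-- `diag(t, t⁻¹)` as a word in `SL₂(K)` -/
theorem dV_word {t : K} (ht : t ≠ 0) {γ : MulAut (PV K)} (hγ : IsWV γ) :
    IsDV t (MulAut.conjNormal (er t) * γ * MulAut.conjNormal (er t⁻¹) * γ * MulAut.conjNormal (er t) * γ) := by
  have hs : star t ≠ 0 := fun h => ht ((star_eq_zero).1 h)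
  refine ⟨fun e => ?_, fun e => ?_, fun e => ?_⟩
  · simp only [MulAut.mul_apply, cV_a, cV_b, cV_c, hγ.a, hγ.b, hγ.c, star_neg, star_add, star_mul', star_star, star_inv₀,
      (e : PG K).ha, (e : PG K).hc]
    field_simp
    ring
  · simp only [MulAut.mul_apply, cV_a, cV_b, cV_c, hγ.a, hγ.b, hγ.c, star_neg, star_add, star_mul', star_star, star_inv₀,
      (e : PG K).ha, (e : PG K).hc]
    field_simp
    ring
  · simp only [MulAut.mul_apply, cV_a, cV_b, cV_c, hγ.a, hγ.b, hγ.c, star_neg, star_add, star_mul', star_star, star_inv₀,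
      (e : PG K).ha, (e : PG K).hc]
    field_simp
    ring

theorem conj_mem_LamV (x : PG K) : MulAut.conjNormal x ∈ LamV K := Subgroup.mem_sup_left (conj_ind _ x)

theorem W_mem_LamV {γ : MulAut (PV K)} (hγ : IsWV γ) : γ ∈ LamV K :=
  Subgroup.mem_sup_right (Subgroup.subset_closure hγ)

/-- the diagonal elements lie in `LamV K` -/
theorem dV_mem {γ : MulAut (PV K)} (hγ : IsWV γ) {t : K} (ht : t ≠ 0) {δ : MulAut (PV K)} (hδ : IsDV t δ) :
    δ ∈ LamV K := by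
  have h := dV_word ht hγ
  have h1 : δ = MulAut.conjNormal (er t) * γ * MulAut.conjNormal (er t⁻¹) * γ * MulAut.conjNormal (er t) * γ :=
    extV (fun e => by rw [hδ.a, h.a]) (fun e => by rw [hδ.b, h.b]) (fun e => by rw [hδ.c, h.c])
  rw [h1]
  have hW := W_mem_LamV hγ
  exact mul_mem (mul_mem (mul_mem (mul_mem (mul_mem (conj_mem_LamV _) hW) (conj_mem_LamV _)) hW) (conj_mem_LamV _)) hW

/-- the restriction to `V` of `tor(t², N(t)⁻¹)` lies in `LamV K` -/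
theorem torV_mem {γ : MulAut (PV K)} (hγ : IsWV γ) {t : K} (ht : t ≠ 0) {α : MulAut (PG K)}
    (hα : IsTorP α (t ^ 2) ((t * star t)⁻¹) (RingEquiv.refl K)) {δ : MulAut (PV K)} (hδ : IsRP α δ) :
    δ ∈ LamV K := by
  have hs : star t ≠ 0 := fun h => ht ((star_eq_zero).1 h)
  refine dV_mem hγ ht (t := t) ⟨fun e => ?_, fun e => ?_, fun e => ?_⟩
  · rw [hδ, hα.a, RingEquiv.refl_apply, star_pow]
    field_simp
  · rw [hδ, hα.b, RingEquiv.refl_apply]
    field_simp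
  · rw [hδ, hα.c, RingEquiv.refl_apply]

/-- conjugation of the Weyl element by the torus -/
theorem conjWV {d : MulAut (PG K)} {s l : K} {τ : K ≃+* K} (hd : IsTorP d s l τ) {δ : MulAut (PV K)} (hδ : IsRP d δ)
    {γ : MulAut (PV K)} (hγ : IsWV γ) : IsDV s (δ * γ * δ⁻¹ * γ⁻¹) := by
  have hs := hd.ns
  have hl := hd.nl
  have hs' : star s ≠ 0 := fun h => hs ((star_eq_zero).1 h)
  -- every element has the form `γ (δ e)`
  have key : ∀ e : PV K, (δ * γ * δ⁻¹ * γ⁻¹) (γ (δ e)) = δ (γ e) := by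
    intro e
    simp only [MulAut.mul_apply, MulAut.inv_apply_self]
  have surj : ∀ x : PV K, ∃ e : PV K, x = γ (δ e) := fun x =>
    ⟨δ⁻¹ (γ⁻¹ x), by rw [MulAut.apply_inv_self, MulAut.apply_inv_self]⟩
  have da : ∀ e : PV K, ((δ e : PV K) : PG K).a = s * star s * l * τ (e : PG K).a := fun e => by rw [hδ, hd.a]
  have db : ∀ e : PV K, ((δ e : PV K) : PG K).b = s * l * τ (e : PG K).b := fun e => by rw [hδ, hd.b]
  have dc : ∀ e : PV K, ((δ e : PV K) : PG K).c = l * τ (e : PG K).c := fun e => by rw [hδ, hd.c]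
  refine ⟨fun x => ?_, fun x => ?_, fun x => ?_⟩
  · obtain ⟨e, rfl⟩ := surj x
    rw [key]
    simp only [da, db, dc, hγ.a, hγ.b, hγ.c]
    ring
  · obtain ⟨e, rfl⟩ := surj x
    rw [key]
    simp only [da, db, dc, hγ.a, hγ.b, hγ.c, star_mul', hd.sl, map_neg, hd.tst]
    field_simp
  · obtain ⟨e, rfl⟩ := surj x
    rw [key]
    simp only [da, db, dc, hγ.a, hγ.b, hγ.c]
    field_simp

/-! ### `Q` -/

theorem cQ_r (x : K) (hx : star x = x) (e : PQ K) : ((MulAut.conjNormal (ec x hx) e : PQ K) : PG K).r =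
    (e : PG K).r := by
  show (ec x hx * (e : PG K) * (ec x hx)⁻¹).r = _
  simp [ec]

theorem cQ_a (x : K) (hx : star x = x) (e : PQ K) : ((MulAut.conjNormal (ec x hx) e : PQ K) : PG K).a =
    (e : PG K).a - (e : PG K).r * star (e : PG K).r * x := by
  have h : (e : PG K).c = 0 := e.2
  show (ec x hx * (e : PG K) * (ec x hx)⁻¹).a = _
  simp only [PG.mul_a, PG.mul_b, PG.mul_r, PG.mul_c, PG.inv_a, PG.inv_b, PG.inv_c, PG.inv_r, ec, h, star_zero, neg_zero, zero_mul,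
    mul_zero, add_zero, zero_add, star_neg]
  ring

theorem cQ_b (x : K) (hx : star x = x) (e : PQ K) : ((MulAut.conjNormal (ec x hx) e : PQ K) : PG K).b =
    (e : PG K).b - (e : PG K).r * x := by
  have h : (e : PG K).c = 0 := e.2
  show (ec x hx * (e : PG K) * (ec x hx)⁻¹).b = _
  simp only [PG.mul_b, PG.mul_r, PG.mul_c, PG.inv_b, PG.inv_c, ec, h]
  ring

theorem WQ_inv_r {γ : MulAut (PQ K)} (hγ : IsWQ γ) (e : PQ K) : ((γ⁻¹ e : PQ K) : PG K).r = - (e : PG K).b := by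
  have h := hγ.b (γ⁻¹ e)
  rw [MulAut.apply_inv_self] at h
  linear_combination h

theorem WQ_inv_b {γ : MulAut (PQ K)} (hγ : IsWQ γ) (e : PQ K) : ((γ⁻¹ e : PQ K) : PG K).b = (e : PG K).r := by
  have h := hγ.r (γ⁻¹ e)
  rw [MulAut.apply_inv_self] at h
  exact h.symm

theorem WQ_inv_a {γ : MulAut (PQ K)} (hγ : IsWQ γ) (e : PQ K) : ((γ⁻¹ e : PQ K) : PG K).a =
    (e : PG K).a - ((e : PG K).r * star (e : PG K).b + star (e : PG K).r * (e : PG K).b) := by
  have h := hγ.a (γ⁻¹ e)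
  rw [MulAut.apply_inv_self, WQ_inv_r hγ, WQ_inv_b hγ, star_neg] at h
  linear_combination -h

/-- the diagonal element `diag(t, t⁻¹)` of `SL₂(k)` on `Q` -/
structure IsDQ (t : K) (δ : MulAut (PQ K)) : Prop where
  r : ∀ e : PQ K, ((δ e : PQ K) : PG K).r = t * (e : PG K).r
  a : ∀ e : PQ K, ((δ e : PQ K) : PG K).a = (e : PG K).a
  b : ∀ e : PQ K, ((δ e : PQ K) : PG K).b = t⁻¹ * (e : PG K).b

theorem star_inv_of {t : K} (h : star t = t) : star t⁻¹ = t⁻¹ := by rw [star_inv₀, h]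

/-- `diag(t, t⁻¹)` as a word in `SL₂(k)` -/
theorem dQ_word {t : K} (ht : t ≠ 0) (hst : star t = t) {γ : MulAut (PQ K)} (hγ : IsWQ γ) :
    IsDQ t (MulAut.conjNormal (ec t⁻¹ (star_inv_of hst)) * γ⁻¹ * MulAut.conjNormal (ec t hst) * γ *
      MulAut.conjNormal (ec t⁻¹ (star_inv_of hst)) * γ⁻¹) := by
  have hsi := star_inv_of hst
  refine ⟨fun e => ?_, fun e => ?_, fun e => ?_⟩
  · simp only [MulAut.mul_apply, cQ_r, cQ_a, cQ_b, hγ.r, hγ.a, hγ.b, WQ_inv_r hγ, WQ_inv_a hγ, WQ_inv_b hγ, star_neg,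
      star_add, star_sub, star_mul', star_star, hsi, hst]
    field_simp
    ring
  · simp only [MulAut.mul_apply, cQ_r, cQ_a, cQ_b, hγ.r, hγ.a, hγ.b, WQ_inv_r hγ, WQ_inv_a hγ, WQ_inv_b hγ, star_neg,
      star_add, star_sub, star_mul', star_star, hsi, hst]
    field_simp
    ring
  · simp only [MulAut.mul_apply, cQ_r, cQ_a, cQ_b, hγ.r, hγ.a, hγ.b, WQ_inv_r hγ, WQ_inv_a hγ, WQ_inv_b hγ, star_neg,
      star_add, star_sub, star_mul', star_star, hsi, hst]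
    field_simp
    ring

theorem conj_mem_LamQ (x : PG K) : MulAut.conjNormal x ∈ LamQ K := Subgroup.mem_sup_left (conj_ind _ x)

theorem W_mem_LamQ {γ : MulAut (PQ K)} (hγ : IsWQ γ) : γ ∈ LamQ K :=
  Subgroup.mem_sup_right (Subgroup.subset_closure hγ)

/-- the diagonal elements lie in `LamQ K` -/
theorem dQ_mem {γ : MulAut (PQ K)} (hγ : IsWQ γ) {t : K} (ht : t ≠ 0) (hst : star t = t) {δ : MulAut (PQ K)}
    (hδ : IsDQ t δ) : δ ∈ LamQ K := by
  have h := dQ_word ht hst hγ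
  have h1 : δ = MulAut.conjNormal (ec t⁻¹ (star_inv_of hst)) * γ⁻¹ * MulAut.conjNormal (ec t hst) * γ *
      MulAut.conjNormal (ec t⁻¹ (star_inv_of hst)) * γ⁻¹ :=
    extQ (fun e => by rw [hδ.r, h.r]) (fun e => by rw [hδ.a, h.a]) (fun e => by rw [hδ.b, h.b])
  rw [h1]
  have hW := W_mem_LamQ hγ
  exact mul_mem (mul_mem (mul_mem (mul_mem (mul_mem (conj_mem_LamQ _) (inv_mem hW)) (conj_mem_LamQ _)) hW)
    (conj_mem_LamQ _)) (inv_mem hW)

/-- the restriction to `Q` of `tor(t, t⁻²)`, `t ∈ k`, lies in `LamQ K` -/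
theorem torQ_mem {γ : MulAut (PQ K)} (hγ : IsWQ γ) {t : K} (ht : t ≠ 0) (hst : star t = t) {α : MulAut (PG K)}
    (hα : IsTorP α t (t⁻¹ * t⁻¹) (RingEquiv.refl K)) {δ : MulAut (PQ K)} (hδ : IsRP α δ) : δ ∈ LamQ K := by
  refine dQ_mem hγ ht hst ⟨fun e => ?_, fun e => ?_, fun e => ?_⟩
  · rw [hδ, hα.r, RingEquiv.refl_apply]
  · rw [hδ, hα.a, RingEquiv.refl_apply, hst]
    field_simp
  · rw [hδ, hα.b, RingEquiv.refl_apply]
    field_simp

/-- conjugation of the Weyl element by the torus -/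
theorem conjWQ {d : MulAut (PG K)} {s l : K} {τ : K ≃+* K} (hd : IsTorP d s l τ) {δ : MulAut (PQ K)} (hδ : IsRP d δ)
    {γ : MulAut (PQ K)} (hγ : IsWQ γ) : IsDQ l⁻¹ (δ * γ * δ⁻¹ * γ⁻¹) := by
  have hs := hd.ns
  have hl := hd.nl
  have hs' : star s ≠ 0 := fun h => hs ((star_eq_zero).1 h)
  have key : ∀ e : PQ K, (δ * γ * δ⁻¹ * γ⁻¹) (γ (δ e)) = δ (γ e) := by
    intro e
    simp only [MulAut.mul_apply, MulAut.inv_apply_self]
  have surj : ∀ x : PQ K, ∃ e : PQ K, x = γ (δ e) := fun x =>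
    ⟨δ⁻¹ (γ⁻¹ x), by rw [MulAut.apply_inv_self, MulAut.apply_inv_self]⟩
  have dr : ∀ e : PQ K, ((δ e : PQ K) : PG K).r = s * τ (e : PG K).r := fun e => by rw [hδ, hd.r]
  have da : ∀ e : PQ K, ((δ e : PQ K) : PG K).a = s * star s * l * τ (e : PG K).a := fun e => by rw [hδ, hd.a]
  have db : ∀ e : PQ K, ((δ e : PQ K) : PG K).b = s * l * τ (e : PG K).b := fun e => by rw [hδ, hd.b]
  refine ⟨fun x => ?_, fun x => ?_, fun x => ?_⟩
  · obtain ⟨e, rfl⟩ := surj x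
    rw [key]
    simp only [dr, da, db, hγ.a, hγ.b, hγ.r]
    field_simp
  · obtain ⟨e, rfl⟩ := surj x
    rw [key]
    simp only [dr, da, db, hγ.a, hγ.b, hγ.r, map_sub, map_add, map_mul, hd.tst, star_mul', hd.sl]
    ring
  · obtain ⟨e, rfl⟩ := surj x
    rw [key]
    simp only [dr, da, db, hγ.a, hγ.b, hγ.r, map_neg, inv_inv]
    ring

/-! ### the torus normalizes `LamV` and `LamQ` -/

theorem conj_ind_mem {Q : Subgroup (PG K)} [Q.Normal] {d : MulAut (PG K)} {δ : MulAut Q} (hδ : IsRP d δ)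
    {γ : MulAut Q} (hγ : γ ∈ autInducedBy ⊤ Q) : δ * γ * δ⁻¹ ∈ autInducedBy ⊤ Q := by
  obtain ⟨x, -, hx⟩ := (Cfsg.Agent.H802.mem_autInducedBy_iff _ _ _).1 hγ
  refine (Cfsg.Agent.H802.mem_autInducedBy_iff _ _ _).2 ⟨d x, trivial, fun e => ?_⟩
  have h1 : ((δ (δ⁻¹ e) : Q) : PG K) = e := congrArg Subtype.val (MulAut.apply_inv_self _ δ e)
  rw [hδ] at h1
  rw [MulAut.mul_apply, MulAut.mul_apply, hδ, hx, map_mul, map_mul, map_inv, h1]

theorem conjV_le {d : MulAut (PG K)} {s l : K} {τ : K ≃+* K} (hd : IsTorP d s l τ) {δ : MulAut (PV K)}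
    (hδ : IsRP d δ) : (LamV K).map (MulAut.conj δ).toMonoidHom ≤ LamV K := by
  rw [Subgroup.map_le_iff_le_comap]
  refine sup_le ?_ ?_
  · intro γ hγ
    exact Subgroup.mem_sup_left (conj_ind_mem hδ hγ)
  · rw [Subgroup.closure_le]
    intro γ hγ
    have hγ' : IsWV γ := hγ
    have h1 := dV_mem hγ' hd.ns (conjWV hd hδ hγ')
    have h2 := mul_mem h1 (W_mem_LamV hγ')
    rw [inv_mul_cancel_right] at h2
    exact h2

theorem conjQ_le {d : MulAut (PG K)} {s l : K} {τ : K ≃+* K} (hd : IsTorP d s l τ) {δ : MulAut (PQ K)}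
    (hδ : IsRP d δ) : (LamQ K).map (MulAut.conj δ).toMonoidHom ≤ LamQ K := by
  rw [Subgroup.map_le_iff_le_comap]
  refine sup_le ?_ ?_
  · intro γ hγ
    exact Subgroup.mem_sup_left (conj_ind_mem hδ hγ)
  · rw [Subgroup.closure_le]
    intro γ hγ
    have hγ' : IsWQ γ := hγ
    have h1 := dQ_mem hγ' (inv_ne_zero hd.nl) (star_inv_of hd.sl) (conjWQ hd hδ hγ')
    have h2 := mul_mem h1 (W_mem_LamQ hγ')
    rw [inv_mul_cancel_right] at h2
    exact h2

theorem isRP_inv {d : MulAut (PG K)} {Q : Subgroup (PG K)} {δ : MulAut Q} (h : IsRP d δ) : IsRP d⁻¹ δ⁻¹ := by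
  intro e
  apply d.injective
  rw [MulAut.apply_inv_self, ← h, MulAut.apply_inv_self]

theorem map_conj_eq {G : Type*} [Group G] {L : Subgroup G} {g : G} (h1 : L.map (MulAut.conj g).toMonoidHom ≤ L)
    (h2 : L.map (MulAut.conj g⁻¹).toMonoidHom ≤ L) : L.map (MulAut.conj g).toMonoidHom = L := by
  refine le_antisymm h1 fun x hx => ?_
  refine ⟨g⁻¹ * x * g, ?_, ?_⟩
  · have := h2 ⟨x, hx, rfl⟩
    simpa using this
  · simp [MulAut.conj_apply, mul_assoc]

/-- **(LN)** -/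
theorem stLamN (hG : StGrp.{u}) : StLamN.{u} := by
  intro K _ _ p n hK d hd
  obtain ⟨-, -, -, hT, -⟩ := hG hK
  obtain ⟨s, l, τ, h⟩ := hT d hd
  obtain ⟨s', l', τ', h'⟩ := hT d⁻¹ (inv_mem hd)
  exact ⟨fun δ hδ => map_conj_eq (conjV_le h hδ) (conjV_le h' (isRP_inv hδ)),
    fun δ hδ => map_conj_eq (conjQ_le h hδ) (conjQ_le h' (isRP_inv hδ))⟩

end

end Cfsg.Agent.H64.P4
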