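import Cfsg.Agent.H776.P4.Stmts

/-!
# S5210, task P4-REALb: the interface to the concrete group `SU₄(K)` (helper64; to be proved in P4-REALa)
-/

set_option autoImplicit false

namespace Cfsg.Agent.H64.P4

open Cfsg Cfsg.FusionSystem Cfsg.Agent.H776.P4
open Cfsg.Agent.H756.PU (HypK)

universe u

/-- The element `α β` of the torus of `SU₄`: `α = tor(s², N(s)⁻¹)`, `β = tor(t, t⁻²)`, `t ∈ k` -/
def TorEl {K : Type u} [Field K] [StarRing K] (τ : MulAut (PG K)) : Prop :=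
  ∃ (s t : K) (α β : MulAut (PG K)), s ≠ 0 ∧ t ≠ 0 ∧ star t = t ∧
    IsTorP α (s ^ 2) ((s * star s)⁻¹) (RingEquiv.refl K) ∧ IsTorP β t (t⁻¹ * t⁻¹) (RingEquiv.refl K) ∧ τ = α * β

/-- The data to be supplied by the concrete group: `G0 = SU₄(K)` (matrices `g ∈ SL₄(K)` with `g J g* = J`), `T` the group
of triples `(s, l, τ)`; for instance `T` = the subgroup of `MulAut (PG K) × MulAut G0` of the pairs `(a, b)` with
`IsTorP a s l τ`, `b` = conjugation by `diag(s, 1, ..)` (a similitude of multiplier `l`) after `τ`. -/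
structure RData (K : Type u) [Field K] [StarRing K] (p : ℕ) where
  G0 : Type u
  T : Type u
  [grpG : Group G0]
  [finG : Finite G0]
  [grpT : Group T]
  /-- the embedding -/
  ι : PG K →* G0
  ρ : T →* MulAut (PG K)
  A : T →* MulAut G0
  inj : Function.Injective ι
  syl : ¬ p ∣ ι.range.index
  injT : Function.Injective ρ
  tor : ∀ (α : MulAut (PG K)) (s l : K) (τ : K ≃+* K), IsTorP α s l τ → α ∈ ρ.range
  act : ∀ (t : T) (x : PG K), A t (ι x) = ι (ρ t x)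
  /-- the normalizer of the Sylow subgroup -/
  nrm : ∀ g : G0, (∀ x : PG K, g * ι x * g⁻¹ ∈ ι.range) →
    ∃ (u : PG K) (τ : MulAut (PG K)), TorEl τ ∧ ∀ x : PG K, g * ι x * g⁻¹ = ι (u * τ x * u⁻¹)
  /-- the normalizer of `Q` (stabiliser of an isotropic point) -/
  nrmQ : ∀ g : G0, (∀ x ∈ PQ K, ∃ y ∈ PQ K, g * ι x * g⁻¹ = ι y) →
    ∃ l ∈ LamQ K, ∃ (τ : MulAut (PG K)) (δ : MulAut (PQ K)), TorEl τ ∧ IsRP τ δ ∧
      ∀ e : PQ K, g * ι (e : PG K) * g⁻¹ = ι (((l * δ) e : PQ K) : PG K)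
  /-- the normalizer of `V` preserves the hermitian determinant up to a scalar (`v ↦ A v A*`) -/
  nrmV : ∀ g : G0, (∀ x ∈ PV K, ∃ y ∈ PV K, g * ι x * g⁻¹ = ι y) →
    ∃ c : K, c ≠ 0 ∧ ∀ x ∈ PV K, ∀ y ∈ PV K, g * ι x * g⁻¹ = ι y →
      y.a * y.c - y.b * star y.b = c * (x.a * x.c - x.b * star x.b)
  wV : ∃ (g : G0) (γ : MulAut (PV K)), IsWV γ ∧ ∀ e : PV K, g * ι (e : PG K) * g⁻¹ = ι ((γ e : PV K) : PG K)
  wQ : ∃ (g : G0) (γ : MulAut (PQ K)), IsWQ γ ∧ ∀ e : PQ K, g * ι (e : PG K) * g⁻¹ = ι ((γ e : PQ K) : PG K)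

attribute [instance] RData.grpG RData.finG RData.grpT

/-- (REAL-a) -/
def StRealA : Prop :=
  ∀ {K : Type u} [Field K] [StarRing K] {p n : ℕ} [Fact p.Prime], HypK K p n → Nonempty (RData.{u} K p)

end Cfsg.Agent.H64.P4
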