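import Cfsg.Agent.H64.P4.LamN
import Cfsg.Agent.H64.P4.RealDef

/-!
# S5210 [P4-REALa] (helper64): the clause `nrmQ` of `RData` from the Bruhat statement

`nrmQ_of` : `nrm`, `wQ` and the Bruhat statement for the normalizer of `ι(Q)` give `nrmQ`.
-/

set_option autoImplicit false

namespace Cfsg.Agent.H64.P4

open Cfsg Cfsg.FusionSystem Cfsg.Agent.H776.P4
open Cfsg.Agent.H756.PU (HypK)

universe u

theorem exists_resQ {K : Type u} [Field K] [StarRing K] {p n : ℕ} (hK : HypK K p n) (d : MulAut (PG K)) :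
    ∃ δ : MulAut (PQ K), IsRP d δ :=
  ⟨(d.subgroupMap (PQ K)).trans (MulEquiv.subgroupCongr (((H1.P4.stTI hK).2 (PQ K) (Or.inr rfl)).2.2 d)), fun _ => rfl⟩

theorem nrmQ_of {K : Type u} [Field K] [StarRing K] {p n : ℕ} (hK : HypK K p n) {G0 : Type*} [Group G0]
    (ι : PG K →* G0)
    (nrm : ∀ g : G0, (∀ x : PG K, g * ι x * g⁻¹ ∈ ι.range) →
      ∃ (u : PG K) (τ : MulAut (PG K)), TorEl τ ∧ ∀ x : PG K, g * ι x * g⁻¹ = ι (u * τ x * u⁻¹))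
    (wQ : G0) {γ : MulAut (PQ K)} (hγ : IsWQ γ)
    (hwQ : ∀ e : PQ K, wQ * ι (e : PG K) * wQ⁻¹ = ι ((γ e : PQ K) : PG K))
    (brQ : ∀ g : G0, (∀ x ∈ PQ K, ∃ y ∈ PQ K, g * ι x * g⁻¹ = ι y) →
      (∀ x : PG K, g * ι x * g⁻¹ ∈ ι.range) ∨
      ∃ (x : PG K) (h : G0), (∀ y : PG K, h * ι y * h⁻¹ ∈ ι.range) ∧ g = ι x * wQ * h) :
    ∀ g : G0, (∀ x ∈ PQ K, ∃ y ∈ PQ K, g * ι x * g⁻¹ = ι y) →
      ∃ l ∈ LamQ K, ∃ (τ : MulAut (PG K)) (δ : MulAut (PQ K)), TorEl τ ∧ IsRP τ δ ∧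
        ∀ e : PQ K, g * ι (e : PG K) * g⁻¹ = ι (((l * δ) e : PQ K) : PG K) := by
  intro g hg
  rcases brQ g hg with h | ⟨x, h, hh, rfl⟩
  · obtain ⟨u, τ, hτ, hu⟩ := nrm g h
    obtain ⟨δ, hδ⟩ := exists_resQ hK τ
    refine ⟨MulAut.conjNormal u, conj_mem_LamQ u, τ, δ, hτ, hδ, fun e => ?_⟩
    rw [hu, ← hδ]
    rfl
  · obtain ⟨u, τ, hτ, hu⟩ := nrm h hh
    obtain ⟨δ, hδ⟩ := exists_resQ hK τ
    refine ⟨MulAut.conjNormal x * γ * MulAut.conjNormal u, mul_mem (mul_mem (conj_mem_LamQ x) (W_mem_LamQ hγ))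
      (conj_mem_LamQ u), τ, δ, hτ, hδ, fun e => ?_⟩
    have h1 : ι x * wQ * h * ι (e : PG K) * (ι x * wQ * h)⁻¹ =
        ι x * (wQ * (h * ι (e : PG K) * h⁻¹) * wQ⁻¹) * (ι x)⁻¹ := by group
    have h2 : u * τ (e : PG K) * u⁻¹ = ((MulAut.conjNormal u (δ e) : PQ K) : PG K) := by
      rw [← hδ]
      rfl
    rw [h1, hu, h2, hwQ, ← map_mul, ← map_inv, ← map_mul]
    rfl

end Cfsg.Agent.H64.P4
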