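import Cfsg.Agent.H64.P4.LamN
import Cfsg.Agent.H64.P4.RealDef
import Cfsg.Agent.H781.Realized
import Cfsg.Agent.H756.PU.AsmGen
import Cfsg.Agent.H245.PU.Ess
import Cfsg.Agent.H659.PU.Over
import Cfsg.Agent.H732.PU.Chain

/-!
# S5210 [P4-REALb] (helper64): the fusion systems of the groups `SU₄(K) ⋊ D`
-/

set_option autoImplicit false

namespace Cfsg.Agent.H64.P4

open Cfsg Cfsg.FusionSystem Cfsg.Agent.H776.P4 Cfsg.Agent.H781
open Cfsg.Agent.H756.PU (HypK Ess Inv Com NormAut TIAut AF syl_of_normal top_le_normalizer_of_char)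
open Cfsg.Agent.H1.P4 (er ec eb commute_iff mem_PV_iff eq_zero_of_tr finite_PG stTI)
open Cfsg.Agent.H732.PU (Triv Fx fx_step)

universe u

section

variable {K : Type u} [Field K] [StarRing K]

/-! ### the Weyl elements do not normalize `Aut_S(Q)` -/

theorem nn_WV {γ : MulAut (PV K)} (h : IsWV γ) : ¬ NormAut (⊤ : Subgroup (PG K)) γ := by
  intro hn
  let e1 : PV K := ⟨ec 1 (star_one K), rfl⟩
  have h1 := hn (MulAut.conjNormal (er 1)) (conj_ind _ _)
  obtain ⟨y, -, hy⟩ := (H802.mem_autInducedBy_iff _ _ _).1 h1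
  have h2 := congrArg PG.c (hy (γ e1))
  rw [MulAut.mul_apply, MulAut.mul_apply, MulAut.inv_apply_self, h.c, cV_a] at h2
  have h4 : (y * ((γ e1 : PV K) : PG K) * y⁻¹).c = 0 := by
    rw [PG.mul_c, PG.mul_c, PG.inv_c, h.c]
    show y.c + (e1 : PG K).a + -y.c = 0
    have : (e1 : PG K).a = 0 := rfl
    rw [this]
    ring
  rw [h4] at h2
  have e2 : (e1 : PG K).a = 0 := rfl
  have e3 : (e1 : PG K).b = 0 := rfl
  have e4 : (e1 : PG K).c = 1 := rfl
  rw [e2, e3, e4, star_zero, star_one] at h2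
  apply one_ne_zero (α := K)
  linear_combination h2

theorem nn_WQ {γ : MulAut (PQ K)} (h : IsWQ γ) : ¬ NormAut (⊤ : Subgroup (PG K)) γ := by
  intro hn
  let e1 : PQ K := ⟨er 1, rfl⟩
  have h1 := hn (MulAut.conjNormal (ec 1 (star_one K))) (conj_ind _ _)
  obtain ⟨y, -, hy⟩ := (H802.mem_autInducedBy_iff _ _ _).1 h1
  have h2 := congrArg PG.r (hy (γ e1))
  rw [MulAut.mul_apply, MulAut.mul_apply, MulAut.inv_apply_self, h.r, cQ_b] at h2
  have h4 : (y * ((γ e1 : PQ K) : PG K) * y⁻¹).r = 0 := by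
    rw [PG.mul_r, PG.mul_r, PG.inv_r, h.r]
    show y.r + (e1 : PG K).b + -y.r = 0
    have : (e1 : PG K).b = 0 := rfl
    rw [this]
    ring
  rw [h4] at h2
  have e3 : (e1 : PG K).b = 0 := rfl
  have e4 : (e1 : PG K).r = 1 := rfl
  rw [e3, e4] at h2
  apply one_ne_zero (α := K)
  linear_combination -h2

/-! ### restrictions -/

theorem exists_res {G : Type*} [Group G] {Q : Subgroup G} (d : MulAut G) (h : Q.map d.toMonoidHom = Q) :
    ∃ δ : MulAut Q, ∀ e : Q, ((δ e : Q) : G) = d e :=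
  ⟨(d.subgroupMap Q).trans (MulEquiv.subgroupCongr h), fun _ => rfl⟩

theorem torEl_mem {D : Subgroup (MulAut (PG K))} (hT1 : HasTorP D (fun t => t ^ 2) (fun t => (t * star t)⁻¹))
    (hT2 : HasTorK D) {τ : MulAut (PG K)} (h : TorEl τ) : τ ∈ D := by
  obtain ⟨s, t, α, β, hs, ht, hst, hα, hβ, rfl⟩ := h
  exact D.mul_mem (hT1 s hs α hα) (hT2 t ht hst β hβ)

theorem card_comap_of_inj {A B : Type*} [Group A] [Group B] (f : A →* B) (hf : Function.Injective f) {D : Subgroup B}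
    (hD : D ≤ f.range) : Nat.card (D.comap f) = Nat.card D := by
  have h1 : (D.comap f).map f = D := by
    rw [Subgroup.map_comap_eq, inf_eq_right.2 hD]
  calc Nat.card (D.comap f) = Nat.card ((D.comap f).map f) :=
        Nat.card_congr ((D.comap f).equivMapOfInjective f hf).toEquiv
    _ = Nat.card D := by rw [h1]

/-! ### the fusion system -/

/-- the fusion system of `G0 ⋊ D` -/
theorem exists_sys {p n : ℕ} [Fact p.Prime] (hK : HypK K p n) (hpg : IsPGroup p (⊤ : Subgroup (PG K)))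
    (R : RData.{u} K p) (D : Subgroup (MulAut (PG K))) (hDT : D ≤ TP K) (hDc : (Nat.card D).Coprime p) :
    ∃ F : FusionSystem (⊤ : Subgroup (PG K)), F.IsSaturated p ∧ F.IsRealizable p ∧
      (∀ (Q : Subgroup (PG K)) (γ : MulAut Q), γ ∈ F.autGroup Q ↔
        ∃ g : R.G0, ∃ d ∈ D, ∀ e : Q, R.ι ((γ e : Q) : PG K) = g * R.ι (d (e : PG K)) * g⁻¹) ∧
      (∀ α : MulAut (PG K), α ∈ AF F ↔ ∃ g : R.G0, ∃ d ∈ D, ∀ x : PG K, R.ι (α x) = g * R.ι (d x) * g⁻¹) := by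
  have hp : p.Prime := hK.pp
  have hfinK : Finite K := hK.fin
  have hfinU : Finite (PG K) := finite_PG hK
  have hfinM : Finite (MulAut (PG K)) := Finite.of_injective (fun e : MulAut (PG K) => (e : PG K → PG K))
    (fun a b h => MulEquiv.ext (fun x => congrFun h x))
  have hfinT : Finite R.T := Finite.of_injective R.ρ R.injT
  -- the range of `ρ`
  have hTTρ : TP K ≤ R.ρ.range := by
    rw [TP, Subgroup.closure_le]
    rintro α ⟨s, l, τ, h⟩
    exact R.tor α s l τ h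
  let TD : Subgroup R.T := D.comap R.ρ
  have hTDc : (Nat.card TD).Coprime p := by
    rw [card_comap_of_inj R.ρ R.injT (hDT.trans hTTρ)]
    exact hDc
  let φ : TD →* MulAut R.G0 := R.A.comp TD.subtype
  have hφ : ∀ (t : TD) (x : PG K), φ t (R.ι x) = R.ι (R.ρ t x) := fun t x => R.act t x
  have hfinG : Finite (R.G0 ⋊[φ] TD) := Finite.of_equiv _ SemidirectProduct.equivProd.symm
  let ι : (⊤ : Subgroup (PG K)) →* R.G0 ⋊[φ] TD :=
    (SemidirectProduct.inl.comp R.ι).comp (Subgroup.topEquiv (G := PG K)).toMonoidHom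
  have hι : ∀ x : (⊤ : Subgroup (PG K)), ι x = SemidirectProduct.inl (R.ι (x : PG K)) := fun x => rfl
  have hinj : Function.Injective ι := by
    intro a b hab
    rw [hι, hι] at hab
    exact Subtype.ext (R.inj (SemidirectProduct.inl_injective hab))
  -- conjugation in the semidirect product
  have hconj : ∀ (g : R.G0 ⋊[φ] TD) (x : PG K), g * SemidirectProduct.inl (R.ι x) * g⁻¹ =
      SemidirectProduct.inl (g.left * R.ι (R.ρ g.right x) * g.left⁻¹) := by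
    intro g x
    have h1 := SemidirectProduct.inl_aut (φ := φ) g.right (R.ι x)
    have h2 := (SemidirectProduct.inl_left_mul_inr_right g).symm
    rw [map_mul, map_mul, ← hφ, h1, map_inv]
    conv_lhs => rw [h2]
    rw [mul_inv_rev, map_inv]
    simp only [mul_assoc]
  -- the Sylow subgroup
  have hrangep : IsPGroup p ι.range := hpg.of_surjective ι.rangeRestrict ι.rangeRestrict_surjective
  have hidx : ¬ p ∣ ι.range.index := by
    have h1 : Nat.card ι.range = Nat.card (PG K) := by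
      rw [← Nat.card_congr (MonoidHom.ofInjective hinj).toEquiv]
      exact Nat.card_congr Subgroup.topEquiv.toEquiv
    have h2 : Nat.card R.ι.range = Nat.card (PG K) :=
      (Nat.card_congr (MonoidHom.ofInjective R.inj).toEquiv).symm
    have h3 : Nat.card (R.G0 ⋊[φ] TD) = Nat.card R.G0 * Nat.card TD := by
      rw [Nat.card_congr SemidirectProduct.equivProd, Nat.card_prod]
    have h4 := ι.range.card_mul_index
    rw [h3, ← R.ι.range.card_mul_index, h1, h2, mul_assoc] at h4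
    have h5 := Nat.eq_of_mul_eq_mul_left Nat.card_pos h4
    rw [h5]
    apply hp.not_dvd_mul R.syl
    rw [← Nat.Prime.coprime_iff_not_dvd hp]
    exact hTDc.symm
  let T : Sylow p (R.G0 ⋊[φ] TD) := hrangep.toSylow hidx
  have hT : (T : Subgroup (R.G0 ⋊[φ] TD)) = ι.range := rfl
  have hreal := pullback_isRealizedBy ι hinj
  -- membership in automizers
  have haut0 : ∀ (Q : Subgroup (PG K)) (γ : MulAut Q), γ ∈ (pullback ι hinj).autGroup Q ↔
      ∃ g : R.G0 ⋊[φ] TD, ∀ e : Q, R.ι ((γ e : Q) : PG K) = g.left * R.ι (R.ρ g.right (e : PG K)) * g.left⁻¹ := by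
    intro Q γ
    rw [H802.mem_autGroup_iff _ le_top]
    constructor
    · rintro ⟨h1, h2, g, hg⟩
      refine ⟨g, fun e => ?_⟩
      have h3 := hg e
      rw [hι, hι, hconj] at h3
      exact SemidirectProduct.inl_injective h3
    · rintro ⟨g, hg⟩
      refine ⟨le_top, fun _ => trivial, g, fun e => ?_⟩
      rw [hι, hι, hconj]
      exact congrArg _ (hg e)
  have haut : ∀ (Q : Subgroup (PG K)) (γ : MulAut Q), γ ∈ (pullback ι hinj).autGroup Q ↔
        ∃ g : R.G0, ∃ d ∈ D, ∀ e : Q, R.ι ((γ e : Q) : PG K) = g * R.ι (d (e : PG K)) * g⁻¹ := by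
    intro Q γ
    rw [haut0]
    constructor
    · rintro ⟨g, hg⟩
      exact ⟨g.left, R.ρ g.right, g.right.2, hg⟩
    · rintro ⟨g, d, hd, hg⟩
      obtain ⟨t, rfl⟩ := hTTρ (hDT hd)
      refine ⟨⟨g, ⟨t, hd⟩⟩, hg⟩
  refine ⟨pullback ι hinj, isSaturated_of_isRealizedBy hreal T hT, ⟨_, inferInstance, hfinG, ι, hreal, T, hT⟩, haut, ?_⟩
  -- the automizer of the whole group
  intro α
  have h1 : α ∈ AF (pullback ι hinj) ↔
      (MulAut.congr (Subgroup.topEquiv (G := PG K))).symm α ∈ (pullback ι hinj).autGroup ⊤ := by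
    constructor
    · rintro ⟨β, hβ, rfl⟩
      rw [MulEquiv.coe_toMonoidHom, MulEquiv.symm_apply_apply]
      exact hβ
    · intro h
      exact ⟨_, h, MulEquiv.apply_symm_apply _ _⟩
  rw [h1, haut]
  constructor
  · rintro ⟨g, d, hd, hg⟩
    exact ⟨g, d, hd, fun x => hg ⟨x, trivial⟩⟩
  · rintro ⟨g, d, hd, hg⟩
    exact ⟨g, d, hd, fun x => hg x⟩

end

/-! ### an essential group is not a `p`-group -/

theorem not_pGroup_of_ess {Ω : Type*} [Group Ω] {S E : Subgroup Ω} {p : ℕ} {Γ : Subgroup (MulAut E)} (h : Ess S E p Γ) :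
    ¬ IsPGroup p Γ := by
  intro hp
  obtain ⟨g, hg, hs⟩ := h.syl Γ le_rfl hp
  obtain ⟨H, hH, hne, hSH, -, -⟩ := h.spe
  apply hne
  refine le_antisymm hH fun γ hγ => hSH ?_
  have h1 := hs (g⁻¹ * γ * g) (Γ.mul_mem (Γ.mul_mem (Γ.inv_mem hg) hγ) hg)
  have h2 : g * (g⁻¹ * γ * g) * g⁻¹ = γ := by group
  rwa [h2] at h1

theorem pGroup_of_chain {Ω : Type*} [Group Ω] {S E : Subgroup Ω} {p : ℕ} [Fact p.Prime] {Γ : Subgroup (MulAut E)}
    [Finite S] (hS : IsPGroup p S) (hES : E ≤ S)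
    (M1 M2 M3 M4 : Subgroup Ω) (l1 : M1 ≤ E) (l2 : M2 ≤ E) (l3 : M3 ≤ E) (l4 : M4 ≤ E)
    (t5 : ∀ γ ∈ Γ, Triv E M4 γ) (t4 : ∀ γ ∈ Γ, Triv M4 M3 γ) (t3 : ∀ γ ∈ Γ, Triv M3 M2 γ)
    (t2 : ∀ γ ∈ Γ, Triv M2 M1 γ) (t1 : ∀ γ ∈ Γ, Fx M1 γ) : IsPGroup p Γ := by
  have hpow : ∀ {M : Subgroup Ω}, M ≤ E → ∃ k, Nat.card M = p ^ k := by
    intro M hM
    have hMS : M ≤ S := hM.trans hES
    have hfin : Finite M := Finite.of_injective _ (Subgroup.inclusion_injective hMS)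
    exact (hS.of_injective _ (Subgroup.inclusion_injective hMS)).exists_card_eq
  rintro ⟨γ, hγ⟩
  obtain ⟨k1, hk1⟩ := hpow l1
  obtain ⟨k2, hk2⟩ := hpow l2
  obtain ⟨k3, hk3⟩ := hpow l3
  obtain ⟨k4, hk4⟩ := hpow l4
  have f1 : Fx M1 γ := t1 γ hγ
  have f2 : Fx M2 (γ ^ Nat.card M1) := fx_step f1 (t2 γ hγ)
  have g2 : γ ^ Nat.card M1 ∈ Γ := Γ.pow_mem hγ _
  have f3 : Fx M3 ((γ ^ Nat.card M1) ^ Nat.card M2) := fx_step f2 (t3 _ g2)
  have g3 : (γ ^ Nat.card M1) ^ Nat.card M2 ∈ Γ := Γ.pow_mem g2 _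
  have f4 : Fx M4 (((γ ^ Nat.card M1) ^ Nat.card M2) ^ Nat.card M3) := fx_step f3 (t4 _ g3)
  have g4 := Γ.pow_mem g3 (Nat.card M3)
  have f5 : Fx E ((((γ ^ Nat.card M1) ^ Nat.card M2) ^ Nat.card M3) ^ Nat.card M4) := fx_step f4 (t5 _ g4)
  refine ⟨k1 + k2 + k3 + k4, Subtype.ext ?_⟩
  have h1 : γ ^ p ^ (k1 + k2 + k3 + k4) = (((γ ^ Nat.card M1) ^ Nat.card M2) ^ Nat.card M3) ^ Nat.card M4 := by
    rw [← pow_mul, ← pow_mul, ← pow_mul, hk1, hk2, hk3, hk4, pow_add, pow_add, pow_add]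
    simp only [mul_assoc]
  change γ ^ p ^ (k1 + k2 + k3 + k4) = 1
  rw [h1]
  exact MulEquiv.ext fun e => f5 e e.2

theorem triv_of_two {Ω : Type*} [Group Ω] {E : Subgroup Ω} {Γ : Subgroup (MulAut E)} {A B : Subgroup Ω} (hB : Inv Γ B)
    (hA : Inv Γ A) (h : ∀ x ∈ A, ∀ y ∈ A, x ∉ B → y ∉ B → x * y⁻¹ ∈ B) : ∀ γ ∈ Γ, Triv A B γ := by
  intro γ hγ e he
  by_cases heB : (e : Ω) ∈ B
  · exact B.mul_mem (hB.2 γ hγ e heB) (B.inv_mem heB)
  · refine h _ (hA.2 γ hγ e he) _ he (fun h1 => heB ?_) heB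
    have h2 := hB.2 _ (Γ.inv_mem hγ) _ h1
    rwa [MulAut.inv_apply_self] at h2

end Cfsg.Agent.H64.P4
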